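import Groth.Agent.S0090
import Groth.Agent.S2244
import Groth.Agent.EtHens.Basic
import Groth.Agent.EtaleSections.Basic

/-!
# Separated étale schemes over a normal scheme with separably closed function field
-/

set_option autoImplicit false
set_option backward.isDefEq.respectTransparency false

universe u

open CategoryTheory CategoryTheory.Limits AlgebraicGeometry Opposite

namespace Groth.Agent.EtSepClosed

variable {U X : Scheme.{u}} [IsIntegral X] (hN : ∀ x : X, IsIntegrallyClosed (X.presheaf.stalk x))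
  [IsSepClosed X.functionField] (g : U ⟶ X) [Etale g]

include hN in
theorem isLocalIsoAt (u : U) : ∃ O : U.Opens, u ∈ O ∧ IsOpenImmersion (O.ι ≫ g) := by
  obtain ⟨hhens, hsep⟩ := Groth.Agent.S0090.result X hN (g u)
  haveI := hhens
  haveI : IsSepClosed (X.residueField (g u)) := hsep
  let i := X.fromSpecStalk (g u)
  letI : Algebra (X.residueField (g u)) (U.residueField u) := (g.residueFieldMap u).hom.toAlgebra
  haveI : Algebra.IsSeparable (X.residueField (g u)) (U.residueField u) := inferInstance
  haveI : IsIso (g.residueFieldMap u) := (ConcreteCategory.isIso_iff_bijective _).2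
    ⟨RingHom.injective _, IsSepClosed.algebraMap_surjective (X.residueField (g u)) (U.residueField u)⟩
  let m : Spec (X.residueField (g u)) ⟶ U := Spec.map (inv (g.residueFieldMap u)) ≫ U.fromSpecResidueField u
  have hm : m ≫ g = X.fromSpecResidueField (g u) := by
    rw [Category.assoc, ← Scheme.Hom.SpecMap_residueFieldMap_fromSpecResidueField, ← Category.assoc, ← Spec.map_comp,
      IsIso.hom_inv_id, Spec.map_id, Category.id_comp]
  have hm' : m ≫ g = EtHens.pt (X.presheaf.stalk (g u)) ≫ i := by rw [hm]; rfl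
  let Wl : Scheme.{u} := pullback g i
  haveI : Etale (pullback.snd g i) := MorphismProperty.pullback_snd _ _ inferInstance
  let W : (Spec (CommRingCat.of (X.presheaf.stalk (g u)))).Etale :=
    MorphismProperty.Over.mk ⊤ (pullback.snd g i) inferInstance
  obtain ⟨s, hs, hsw⟩ := EtHens.exists_section (X.presheaf.stalk (g u)) W
    (Over.homMk (pullback.lift m (EtHens.pt (X.presheaf.stalk (g u))) hm') (pullback.lift_snd _ _ _))
  have hsu : (s ≫ pullback.fst g i) (IsLocalRing.closedPoint (X.presheaf.stalk (g u))) = u := by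
    have h1 : EtHens.pt (X.presheaf.stalk (g u)) (IsLocalRing.closedPoint (X.residueField (g u))) =
        IsLocalRing.closedPoint (X.presheaf.stalk (g u)) :=
      IsLocalRing.comap_closedPoint (IsLocalRing.residue (X.presheaf.stalk (g u)))
    rw [← h1, ← Scheme.Hom.comp_apply, ← Category.assoc, hsw]
    simp only [Over.homMk_left]
    rw [pullback.lift_fst]
    exact Scheme.fromSpecResidueField_apply u _
  have hsg : (s ≫ pullback.fst g i) ≫ g = X.fromSpecStalk (g u) ≫ 𝟙 X := by
    rw [Category.assoc, pullback.condition, ← Category.assoc]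
    exact congrArg (· ≫ i) hs |>.trans (by simp [i])
  obtain ⟨V, hxV, σ, hσ, hσg⟩ := spread_out_of_isGermInjective' (𝟙 X) g (x := g u) (s ≫ pullback.fst g i) hsg
  rw [Category.comp_id] at hσg
  haveI : IsOpenImmersion (σ ≫ g) := by rw [hσg]; infer_instance
  haveI : Etale σ := Etale.of_comp σ g
  haveI : Mono σ := mono_of_mono σ g
  haveI : UniversallyInjective σ := inferInstance
  haveI : IsOpenImmersion σ := EtaleSections.isOpenImmersion_of_etale_universallyInjective σ
  refine ⟨σ.opensRange, ⟨⟨g u, hxV⟩, ?_⟩, ?_⟩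
  · conv_rhs => rw [← hsu, hσ, Scheme.Hom.comp_apply]
    congr 1
    refine Subtype.ext ?_
    show g u = (V.fromSpecStalkOfMem (g u) hxV ≫ V.ι) (IsLocalRing.closedPoint _)
    rw [Scheme.Opens.fromSpecStalkOfMem_ι, Scheme.fromSpecStalk_closedPoint]
  · have : σ.opensRange.ι ≫ g = σ.isoOpensRange.inv ≫ σ ≫ g := by
      rw [← Category.assoc, Scheme.Hom.isoOpensRange_inv_comp]
    rw [this]
    infer_instance

include hN in
theorem exists_decomp [IsSeparated g] :
    ∃ (ι : Type u) (V : ι → X.Opens) (e : (∐ fun i => (V i : Scheme.{u})) ≅ U),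
      ∀ i, Sigma.ι (fun i => (V i : Scheme.{u})) i ≫ e.hom ≫ g = (V i).ι := by
  choose O hO hOi using fun u => isLocalIsoAt hN g u
  -- the fibre over the generic point
  let ι : Type u := {η : U // g η = genericPoint X}
  have hgen : ∀ u : U, ∃! η : ι, η.1 ⤳ u := fun u => by
    haveI := hOi u
    let j := (O u).ι ≫ g
    have hj : genericPoint X ∈ Set.range j :=
      (genericPoint_specializes (j ⟨u, hO u⟩)).mem_open j.isOpenEmbedding.isOpen_range ⟨_, rfl⟩
    obtain ⟨z, hz⟩ := hj
    refine ⟨⟨z.1, hz⟩, ?_, fun η hη => Subtype.ext ?_⟩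
    · have : z ⤳ (⟨u, hO u⟩ : (O u).toScheme) := j.isEmbedding.isInducing.specializes_iff.1 (by
        rw [hz]; exact genericPoint_specializes _)
      exact this.map (O u).ι.continuous
    · have hmem : η.1 ∈ O u := hη.mem_open (O u).2 (hO u)
      have e : (⟨η.1, hmem⟩ : (O u).toScheme) = z :=
        j.isEmbedding.injective (show j (⟨η.1, hmem⟩ : (O u).toScheme) = j z from η.2.trans hz.symm)
      show η.1 = z.1
      rw [← e]
  let C : ι → U.Opens := fun η => ⟨{u | η.1 ⤳ u}, isOpen_iff_forall_mem_open.2 fun u hu => by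
    refine ⟨O u, fun v hv => ?_, (O u).2, hO u⟩
    have hmem : η.1 ∈ O u := (show η.1 ⤳ u from hu).mem_open (O u).2 (hO u)
    haveI := hOi u
    have h1 : (⟨η.1, hmem⟩ : (O u).toScheme) ⤳ ⟨v, hv⟩ :=
      ((O u).ι ≫ g).isEmbedding.isInducing.specializes_iff.1 (by
        show g η.1 ⤳ _
        rw [η.2]; exact genericPoint_specializes _)
    exact h1.map (O u).ι.continuous⟩
  haveI : ∀ η, IrreducibleSpace (C η).toScheme := fun η => by
    rw [irreducibleSpace_def]
    show IsIrreducible (Set.univ : Set (C η).toScheme)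
    have : (Set.univ : Set (C η).toScheme) = closure {(⟨η.1, specializes_rfl⟩ : (C η).toScheme)} :=
      (Set.eq_univ_of_forall fun v => specializes_iff_mem_closure.1
        ((Topology.IsInducing.subtypeVal.specializes_iff).1 v.2)).symm
    rw [this]
    exact isIrreducible_singleton.closure
  haveI hCi : ∀ η, IsOpenImmersion ((C η).ι ≫ g) := fun η =>
    Groth.Agent.S2244.result _ fun z => by
      haveI := hOi z.1
      refine ⟨(C η).ι ⁻¹ᵁ O z.1, hO z.1, ?_⟩
      rw [← Category.assoc, ← morphismRestrict_ι, Category.assoc]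
      infer_instance
  obtain ⟨hc⟩ := nonempty_isColimit_cofanMk_of (fun η => (C η).ι)
    (top_le_iff.mp fun t _ => by
      obtain ⟨η, hη, -⟩ := hgen t
      exact TopologicalSpace.Opens.mem_iSup.mpr ⟨η, ⟨⟨t, hη⟩, rfl⟩⟩)
    (fun η η' hne => by
      rw [Function.onFun, ← TopologicalSpace.Opens.coe_disjoint]
      refine Set.disjoint_left.mpr fun t ⟨z, hz⟩ ⟨z', hz'⟩ => hne ?_
      subst hz
      exact (hgen _).unique z.2 (by
        have h2 : η'.1 ⤳ (C η').ι z' := z'.2
        rwa [hz'] at h2))
  let V : ι → X.Opens := fun η => ((C η).ι ≫ g).opensRange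
  refine ⟨ι, V, Limits.Sigma.mapIso (fun η => ((C η).ι ≫ g).isoOpensRange.symm) ≪≫
    (coproductIsCoproduct _).coconePointUniqueUpToIso hc, fun η => ?_⟩
  have h3 : Sigma.ι (fun η => ((C η) : Scheme.{u})) η ≫
      ((coproductIsCoproduct _).coconePointUniqueUpToIso hc).hom = (C η).ι :=
    (coproductIsCoproduct _).comp_coconePointUniqueUpToIso_hom hc ⟨η⟩
  have h4 : Sigma.ι (fun i => (V i : Scheme.{u})) η ≫
      (Limits.Sigma.mapIso (fun η => ((C η).ι ≫ g).isoOpensRange.symm)).hom =
        ((C η).ι ≫ g).isoOpensRange.inv ≫ Sigma.ι (fun η => ((C η) : Scheme.{u})) η :=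
    ι_colimMap _ (Discrete.mk η)
  rw [Iso.trans_hom, Category.assoc, ← Category.assoc (Sigma.ι _ η), h4, Category.assoc, ← Category.assoc (Sigma.ι _ η),
    h3]
  exact Scheme.Hom.isoOpensRange_inv_comp _

end Groth.Agent.EtSepClosed
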